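import Mathlib.Algebra.Homology.DerivedCategory.Ext.ExtClass
import Mathlib.Algebra.Homology.DerivedCategory.TStructure
import Mathlib.Algebra.Homology.DerivedCategory.FullyFaithful
import Mathlib.CategoryTheory.Abelian.Refinements
import Mathlib.CategoryTheory.Triangulated.TStructure.TruncLTGE

/-! Every class in `Ext¹` is the class of an extension; maps of extensions. -/

universe w v u

namespace Groth.Agent.Ext1Realise

open CategoryTheory Category Limits DerivedCategory Pretriangulated Abelian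

variable {C : Type u} [Category.{v} C] [Abelian C] [HasExt.{w} C]

/-- Every element of `Ext X P 1` is the class of a short exact sequence `P ⟶ M ⟶ X`. -/
theorem exists_extension {X P : C} (x : Ext X P 1) :
    ∃ (M : C) (j : P ⟶ M) (q : M ⟶ X) (w : j ≫ q = 0)
      (hS : (ShortComplex.mk j q w).ShortExact), hS.extClass = x := by
  let := HasDerivedCategory.standard C
  let F := singleFunctor C 0
  let t := DerivedCategory.TStructure.t (C := C)
  let φ : F.obj X ⟶ (F.obj P)⟦(1 : ℤ)⟧ := x.hom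
  obtain ⟨Y, f, g, hT⟩ := distinguished_cocone_triangle₂ φ
  have : t.IsGE Y 0 := t.isGE₂ _ hT 0 (inferInstanceAs (((singleFunctor C 0).obj P).IsGE 0))
    (inferInstanceAs (((singleFunctor C 0).obj X).IsGE 0))
  have : t.IsLE Y 0 := t.isLE₂ _ hT 0 (inferInstanceAs (((singleFunctor C 0).obj P).IsLE 0))
    (inferInstanceAs (((singleFunctor C 0).obj X).IsLE 0))
  obtain ⟨M, ⟨e⟩⟩ := Y.exists_iso_singleFunctor_obj_of_isGE_of_isLE 0
  obtain ⟨j, hj⟩ := F.map_surjective (f ≫ e.hom)
  obtain ⟨q, hq⟩ := F.map_surjective (e.inv ≫ g)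
  have hT' : Triangle.mk (F.map j) (F.map q) φ ∈ distTriang (DerivedCategory C) := by
    refine isomorphic_distinguished _ hT _ (Triangle.isoMk _ _ (Iso.refl _) e.symm (Iso.refl _)
      (show F.map j ≫ e.inv = 𝟙 (F.obj P) ≫ f by rw [hj, assoc, e.hom_inv_id, comp_id, id_comp])
      (show F.map q ≫ 𝟙 (F.obj X) = e.inv ≫ g by rw [hq, comp_id])
      (show φ ≫ (𝟙 (F.obj P))⟦(1 : ℤ)⟧' = 𝟙 (F.obj X) ≫ φ by rw [CategoryTheory.Functor.map_id, comp_id, id_comp]))
  have w : j ≫ q = 0 := F.map_injective (by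
    rw [F.map_comp, F.map_zero]
    exact comp_distTriang_mor_zero₁₂ _ hT')
  have hj0 : ∀ {Z : C} (z : Z ⟶ P), z ≫ j = 0 → z = 0 := by
    intro Z z hz
    obtain ⟨u, hu⟩ := Triangle.coyoneda_exact₂ _ (inv_rot_of_distTriang _ hT') (F.map z)
      (show F.map z ≫ F.map j = 0 by rw [← F.map_comp, hz, F.map_zero])
    have hu0 : u = 0 := t.zero_of_isLE_of_isGE u 0 1 zero_lt_one inferInstance
      (t.isGE_shift (F.obj X) 0 (-1) 1 (by lia))
    refine F.map_injective ?_
    rw [hu, hu0, zero_comp, F.map_zero]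
    rfl
  have hq0 : ∀ {Z : C} (z : X ⟶ Z), q ≫ z = 0 → z = 0 := by
    intro Z z hz
    obtain ⟨u, hu⟩ := Triangle.yoneda_exact₃ _ hT' (F.map z)
      (show F.map q ≫ F.map z = 0 by rw [← F.map_comp, hz, F.map_zero])
    have hu0 : u = 0 := t.zero_of_isLE_of_isGE u (-1) 0 (by lia)
      (t.isLE_shift (F.obj P) 0 1 (-1) (by lia)) inferInstance
    refine F.map_injective ?_
    rw [hu, hu0, comp_zero, F.map_zero]
    rfl
  have : Mono j := Preadditive.mono_of_cancel_zero _ hj0
  have : Epi q := Preadditive.epi_of_cancel_zero _ hq0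
  have hS : (ShortComplex.mk j q w).ShortExact :=
    { exact := by
        rw [ShortComplex.exact_iff_exact_up_to_refinements]
        intro A z hz
        obtain ⟨u, hu⟩ := Triangle.coyoneda_exact₂ _ hT' (F.map z)
          (show F.map z ≫ F.map q = 0 by rw [← F.map_comp, hz, F.map_zero])
        obtain ⟨u, rfl⟩ := F.map_surjective u
        exact ⟨A, 𝟙 _, inferInstance, u, F.map_injective (by
          rw [id_comp, F.map_comp]; exact hu)⟩ }
  refine ⟨M, j, q, w, hS, ?_⟩
  ext
  rw [ShortComplex.ShortExact.extClass_hom]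
  obtain ⟨a, ha₁, ha₂⟩ := complete_distinguished_triangle_morphism _ _
    hS.singleTriangle_distinguished hT' (𝟙 _) (𝟙 _) (show F.map j ≫ 𝟙 _ = 𝟙 _ ≫ F.map j by simp)
  change F.obj X ⟶ F.obj X at a
  change F.map q ≫ a = 𝟙 _ ≫ F.map q at ha₁
  change hS.singleδ ≫ (𝟙 (F.obj P))⟦(1 : ℤ)⟧' = a ≫ φ at ha₂
  obtain ⟨a, rfl⟩ := F.map_surjective a
  have : a = 𝟙 X := by
    rw [← cancel_epi q]
    refine F.map_injective ?_
    rw [F.map_comp, ha₁, id_comp, comp_id]
  rw [this, F.map_id, id_comp, CategoryTheory.Functor.map_id, comp_id] at ha₂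
  exact ha₂

/-- A map `c` of quotients lifts to a map of extensions iff it is compatible with the classes. -/
theorem exists_middle_map {P F R M X : C} {a : P ⟶ F} {b : F ⟶ R} {wF : a ≫ b = 0}
    (hF : (ShortComplex.mk a b wF).ShortExact) {j : P ⟶ M} {q : M ⟶ X} {wM : j ≫ q = 0}
    (hM : (ShortComplex.mk j q wM).ShortExact) (c : R ⟶ X)
    (h : (Ext.mk₀ c).comp hM.extClass (zero_add 1) = hF.extClass) :
    ∃ i : F ⟶ M, a ≫ i = j ∧ i ≫ q = b ≫ c := by
  let := HasDerivedCategory.standard C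
  let G := singleFunctor C 0
  have h' := congrArg (fun z : Ext _ _ _ => z.hom) h
  simp only [Ext.comp_hom, Ext.mk₀_hom, ShiftedHom.mk₀_comp] at h'
  obtain ⟨m, hm₁, hm₂⟩ := complete_distinguished_triangle_morphism₂ _ _
    hF.singleTriangle_distinguished hM.singleTriangle_distinguished (𝟙 _) (G.map c)
    (show hF.singleδ ≫ (𝟙 (G.obj P))⟦(1 : ℤ)⟧' = G.map c ≫ hM.singleδ by
      rw [CategoryTheory.Functor.map_id, comp_id]
      exact hF.extClass_hom.symm.trans (h'.symm.trans (congrArg (G.map c ≫ ·) hM.extClass_hom)))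
  change G.obj F ⟶ G.obj M at m
  change G.map a ≫ m = 𝟙 _ ≫ G.map j at hm₁
  change G.map b ≫ G.map c = m ≫ G.map q at hm₂
  obtain ⟨i, rfl⟩ := G.map_surjective m
  exact ⟨i, G.map_injective (by rw [G.map_comp, hm₁, id_comp]),
    G.map_injective (by rw [G.map_comp, G.map_comp, hm₂])⟩

/-- Naturality of the class for a map of extensions which is the identity on the subobjects. -/
theorem mk₀_comp_extClass {P F R M X : C} {a : P ⟶ F} {b : F ⟶ R} {wF : a ≫ b = 0}
    (hF : (ShortComplex.mk a b wF).ShortExact) {j : P ⟶ M} {q : M ⟶ X} {wM : j ≫ q = 0}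
    (hM : (ShortComplex.mk j q wM).ShortExact) (i : F ⟶ M) (c : R ⟶ X)
    (ha : a ≫ i = j) (hb : i ≫ q = b ≫ c) :
    (Ext.mk₀ c).comp hM.extClass (zero_add 1) = hF.extClass := by
  let := HasDerivedCategory.standard C
  let f : ShortComplex.mk a b wF ⟶ ShortComplex.mk j q wM :=
    { τ₁ := 𝟙 P, τ₂ := i, τ₃ := c, comm₁₂ := by simpa using ha.symm, comm₂₃ := hb }
  have h := (ShortComplex.ShortExact.singleTriangle.map hF hM f).comm₃
  change hF.singleδ ≫ ((singleFunctor C 0).map (𝟙 P))⟦(1 : ℤ)⟧' = (singleFunctor C 0).map c ≫ hM.singleδ at h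
  rw [CategoryTheory.Functor.map_id, CategoryTheory.Functor.map_id, comp_id] at h
  ext
  simp only [Ext.comp_hom, Ext.mk₀_hom, ShiftedHom.mk₀_comp]
  exact (congrArg ((singleFunctor C 0).map c ≫ ·) hM.extClass_hom).trans
    (h.symm.trans hF.extClass_hom.symm)

end Groth.Agent.Ext1Realise
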